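-- S5287 (helper85): the fusion system over `S` generated by the conjugations of `S` and all isomorphisms between subgroups
-- of the `S`-conjugates of a fixed subgroup `E` ("adding the automorphisms of `E`").
import Cfsg.Agent.Helper87.FusionBasic

set_option autoImplicit false

namespace Cfsg.Agent.Helper85.AddAut

open Cfsg Cfsg.FusionSystem Cfsg.Agent.Helper87

variable {Ω : Type*} [Group Ω]

/-- `φ` is conjugation by an element of `S`. -/
def IsConjBy (S : Subgroup Ω) {P : Subgroup Ω} (φ : P →* Ω) : Prop :=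
  ∃ g ∈ S, ∀ x : P, φ x = g * (x : Ω) * g⁻¹

/-- `φ` is an injective map from a subgroup of an `S`-conjugate of `E` into an `S`-conjugate of `E`. -/
def IsLocalIso (S E : Subgroup Ω) {P : Subgroup Ω} (φ : P →* Ω) : Prop :=
  Function.Injective φ ∧ (∃ g ∈ S, ∀ x : P, g⁻¹ * (x : Ω) * g ∈ E) ∧ ∃ h ∈ S, ∀ x : P, h⁻¹ * φ x * h ∈ E

/-- The fusion system over `S` whose maps are the conjugations by elements of `S` and the injective maps from subgroups of
`S`-conjugates of `E` into `S`-conjugates of `E`. -/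
def addAutSystem (S E : Subgroup Ω) (hES : E ≤ S) : FusionSystem S where
  Hom P := {φ | P ≤ S ∧ (IsConjBy S φ ∨ IsLocalIso S E φ)}
  le_of_mem := by
    rintro P φ ⟨hP, h | ⟨-, -, h, hh, hφ⟩⟩
    · obtain ⟨g, hg, hφ⟩ := h
      exact ⟨hP, fun x => (hφ x).symm ▸ S.mul_mem (S.mul_mem hg (hP x.2)) (S.inv_mem hg)⟩
    · refine ⟨hP, fun x => ?_⟩
      have h1 : h * (h⁻¹ * φ x * h) * h⁻¹ ∈ S := S.mul_mem (S.mul_mem hh (hES (hφ x))) (S.inv_mem hh)
      have e : h * (h⁻¹ * φ x * h) * h⁻¹ = φ x := by group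
      rwa [e] at h1
  injective_of_mem := by
    rintro P φ ⟨-, h | h⟩
    · obtain ⟨g, -, hφ⟩ := h
      intro a b hab
      have h1 : g * (a : Ω) * g⁻¹ = g * (b : Ω) * g⁻¹ := ((hφ a).symm.trans hab).trans (hφ b)
      exact Subtype.ext (mul_left_cancel (mul_right_cancel h1))
    · exact h.1
  conj_mem := by
    intro P g hP hg
    exact ⟨hP, Or.inl ⟨g, hg, fun x => rfl⟩⟩
  comp_mem := by
    rintro P Q φ ψ ⟨hP, hφ⟩ ⟨hQ, hψ⟩ h
    refine ⟨hP, ?_⟩
    rcases hφ with ⟨g, hg, hφ⟩ | ⟨hφi, ⟨a, ha, hPa⟩, b, hb, hφb⟩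
    · rcases hψ with ⟨k, hk, hψ⟩ | ⟨hψi, ⟨a, ha, hQa⟩, b, hb, hψb⟩
      · left
        refine ⟨k * g, S.mul_mem hk hg, fun x => ?_⟩
        show ψ (φ.codRestrict Q h x) = _
        rw [hψ]
        show k * φ x * k⁻¹ = _
        rw [hφ, mul_inv_rev]
        simp only [mul_assoc]
      · right
        refine ⟨?_, ⟨g⁻¹ * a, S.mul_mem (S.inv_mem hg) ha, fun x => ?_⟩, b, hb, fun x => hψb _⟩
        · intro x y hxy
          have h1 := hψi hxy
          have h2 : φ x = φ y := congrArg Subtype.val h1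
          rw [hφ, hφ] at h2
          exact Subtype.ext (mul_left_cancel (mul_right_cancel h2))
        · have h1 := hQa (φ.codRestrict Q h x)
          have h2 : ((φ.codRestrict Q h x : Q) : Ω) = g * (x : Ω) * g⁻¹ := hφ x
          rw [h2] at h1
          have e : (g⁻¹ * a)⁻¹ * (x : Ω) * (g⁻¹ * a) = a⁻¹ * (g * (x : Ω) * g⁻¹) * a := by group
          rwa [e]
    · right
      rcases hψ with ⟨k, hk, hψ⟩ | ⟨hψi, ⟨a', ha', hQa⟩, b', hb', hψb⟩
      · refine ⟨?_, ⟨a, ha, hPa⟩, k * b, S.mul_mem hk hb, fun x => ?_⟩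
        · intro x y hxy
          have h1 : ψ (φ.codRestrict Q h x) = ψ (φ.codRestrict Q h y) := hxy
          rw [hψ, hψ] at h1
          have h2 : φ x = φ y := mul_left_cancel (mul_right_cancel h1)
          exact hφi h2
        · show (k * b)⁻¹ * ψ (φ.codRestrict Q h x) * (k * b) ∈ E
          rw [hψ]
          have e : (k * b)⁻¹ * (k * ((φ.codRestrict Q h x : Q) : Ω) * k⁻¹) * (k * b) = b⁻¹ * φ x * b := by
            show (k * b)⁻¹ * (k * φ x * k⁻¹) * (k * b) = b⁻¹ * φ x * b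
            group
          rw [e]
          exact hφb x
      · refine ⟨?_, ⟨a, ha, hPa⟩, b', hb', fun x => hψb _⟩
        intro x y hxy
        have h1 := hψi hxy
        have h2 : φ x = φ y := congrArg Subtype.val h1
        exact hφi h2
  inv_mem := by
    rintro P φ ⟨hP, hφ⟩
    rcases hφ with ⟨g, hg, hφ⟩ | ⟨hφi, ⟨a, ha, hPa⟩, b, hb, hφb⟩
    · have hle : φ.range ≤ S := by
        rintro _ ⟨x, rfl⟩
        rw [hφ]
        exact S.mul_mem (S.mul_mem hg (hP x.2)) (S.inv_mem hg)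
      refine ⟨conjHom φ.range g⁻¹, ⟨hle, Or.inl ⟨g⁻¹, S.inv_mem hg, fun y => rfl⟩⟩, fun x => ?_⟩
      show g⁻¹ * φ x * g⁻¹⁻¹ = x
      rw [hφ, inv_inv]
      simp only [mul_assoc, inv_mul_cancel, mul_one, inv_mul_cancel_left]
    · have hle : φ.range ≤ S := by
        rintro _ ⟨x, rfl⟩
        have h1 : b * (b⁻¹ * φ x * b) * b⁻¹ ∈ S := S.mul_mem (S.mul_mem hb (hES (hφb x))) (S.inv_mem hb)
        have e : b * (b⁻¹ * φ x * b) * b⁻¹ = φ x := by group
        rwa [e] at h1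
      set e := MonoidHom.ofInjective hφi with he
      have hex : ∀ x : P, e.symm ⟨φ x, ⟨x, rfl⟩⟩ = x := by
        intro x
        apply e.injective
        rw [MulEquiv.apply_symm_apply]
        exact Subtype.ext (MonoidHom.ofInjective_apply hφi).symm
      refine ⟨P.subtype.comp e.symm.toMonoidHom, ⟨hle, Or.inr ⟨?_, ⟨b, hb, ?_⟩, a, ha, ?_⟩⟩, fun x => ?_⟩
      · intro x y hxy
        have h1 : ((e.symm x : P) : Ω) = ((e.symm y : P) : Ω) := hxy
        exact e.symm.injective (Subtype.ext h1)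
      · rintro ⟨_, x, rfl⟩
        exact hφb x
      · intro y
        exact hPa (e.symm y)
      · show ((e.symm ⟨φ x, ⟨x, rfl⟩⟩ : P) : Ω) = x
        rw [hex]

theorem mem_addAutSystem_iff (S E : Subgroup Ω) (hES : E ≤ S) {P : Subgroup Ω} (φ : P →* Ω) :
    φ ∈ (addAutSystem S E hES).Hom P ↔ P ≤ S ∧ (IsConjBy S φ ∨ IsLocalIso S E φ) := Iff.rfl

end Cfsg.Agent.Helper85.AddAut
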