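-- S5287 (helper85): chains of strongly closed subgroups with cyclic steps ("supersoluble" fusion systems).
import Mathlib
import Cfsg.Prelude.Def_FusionSystem

set_option autoImplicit false

namespace Cfsg.Agent.Helper85.SS

open Cfsg Cfsg.FusionSystem

variable {Ω : Type*} [Group Ω] {S : Subgroup Ω}

/-- The system has a chain of strongly closed subgroups from `1` to `S` with cyclic steps. -/
def HasChain (F : FusionSystem S) : Prop :=
  ∃ (m : ℕ) (c : Fin (m + 1) → Subgroup Ω), c 0 = ⊥ ∧ c (Fin.last m) = S ∧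
    (∀ i : Fin (m + 1), F.StronglyClosed (c i)) ∧
    ∀ i : Fin m, c i.castSucc ≤ c i.succ ∧ ∃ x ∈ S, c i.succ = c i.castSucc ⊔ Subgroup.zpowers x

/-- In a chain, the step that leaves a given subgroup `Z` not containing `S`. -/
theorem HasChain.exists_step {F : FusionSystem S} (h : HasChain F) (Z : Subgroup Ω) (hZ : ¬ S ≤ Z) :
    ∃ (T T' : Subgroup Ω) (x : Ω), x ∈ S ∧ T ≤ Z ∧ ¬ T' ≤ Z ∧ F.StronglyClosed T ∧ F.StronglyClosed T' ∧
      T' = T ⊔ Subgroup.zpowers x := by
  obtain ⟨m, c, h0, hm, hsc, hstep⟩ := h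
  by_contra hcon
  push Not at hcon
  have key : ∀ i : ℕ, ∀ hi : i < m + 1, c ⟨i, hi⟩ ≤ Z := by
    intro i
    induction i with
    | zero =>
      intro hi
      have : (⟨0, hi⟩ : Fin (m + 1)) = 0 := rfl
      rw [this, h0]
      exact bot_le
    | succ i ih =>
      intro hi
      have hi' : i < m := by omega
      have h1 := ih (by omega)
      obtain ⟨-, x, hxS, hx⟩ := hstep ⟨i, hi'⟩
      have e1 : (⟨i, hi'⟩ : Fin m).castSucc = ⟨i, by omega⟩ := rfl
      have e2 : (⟨i, hi'⟩ : Fin m).succ = ⟨i + 1, hi⟩ := rfl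
      rw [e1, e2] at hx
      by_contra hnot
      exact hcon _ _ x hxS h1 hnot (hsc _) (hsc _) hx
  apply hZ
  rw [← hm]
  exact key m (by omega)

end Cfsg.Agent.Helper85.SS
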