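-- S5287 (helper85): the farmed-out pieces (board #4425, #4432, #4449), collected under one namespace.
import Cfsg.Agent.Helper85.SS.Chain
import Cfsg.Agent.Helper85.SS.AddAut
import Cfsg.Agent.Helper67.SSX1bMain
import Cfsg.Agent.Helper49.SSX4a
import Cfsg.Agent.Helper91.SSFR
import Cfsg.Agent.Helper91.SSDp
import Cfsg.Agent.Helper25.SSR1
import Cfsg.Agent.Helper57.SSR2
import Cfsg.Agent.Helper57.SSP2
import Cfsg.Agent.Helper60.SSV
import Cfsg.Agent.Helper80.SSX2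
import Cfsg.Agent.Helper50.SSX3Core

set_option autoImplicit false

namespace Cfsg.Agent.Helper85.SS.Pieces

open Cfsg Cfsg.FusionSystem Cfsg.Agent.Helper87 Cfsg.Agent.Helper85.AddAut Cfsg.Agent.Helper85.SS

variable {Ω : Type*} [Group Ω]

/-- (X1b), by helper67 (with (X1a) by helper10) -/
theorem exists_bad_homocyclic {S : Subgroup Ω} [Finite S] (p : ℕ) [Fact p.Prime] (n : ℕ) (hn : 0 < n)
    (e : ↥S ≃* Multiplicative (ZMod (p ^ n)) × Multiplicative (ZMod (p ^ n))) :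
    ∃ F : FusionSystem S, F.IsSaturated p ∧ ¬ HasChain F :=
  Cfsg.Agent.Helper67.SSX1b.exists_bad_homocyclic p n hn e

/-- (X2), by helper80, with (V) by helper60 (and (SAT) by helper38) -/
theorem exists_bad_dihedral {S : Subgroup Ω} [Finite S] (hS : IsPGroup 2 S) (n : ℕ) (hn : 2 ≤ n)
    (e : ↥S ≃* DihedralGroup n) : ∃ F : FusionSystem S, F.IsSaturated 2 ∧ ¬ HasChain F :=
  Cfsg.Agent.Helper80.SSX2.exists_bad_dihedral_of
    (fun z s hz hs hz2 hs2 hzs hzc hcent hne =>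
      Cfsg.Agent.Helper60.SSV.exists_bad_of_four hS z s hz hs hz2 hs2 hzs hzc hcent hne) hS n hn e

/-- (X3), group theory by helper50, with (V) by helper60 -/
theorem exists_bad_quasidihedral {S : Subgroup Ω} [Finite S] (hqd : IsQuasiDihedral ↥S) :
    ∃ F : FusionSystem S, F.IsSaturated 2 ∧ ¬ HasChain F := by
  obtain ⟨hS, z, s, hz2, hs2, hzs, hzc, hcent, g, hg⟩ := Cfsg.Agent.Helper50.SSX3.quasidihedral_four hqd
  refine Cfsg.Agent.Helper60.SSV.exists_bad_of_four hS (z : Ω) (s : Ω) z.2 s.2 ?_ ?_ ?_ ?_ ?_ ?_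
  · rw [Subgroup.orderOf_coe]; exact hz2
  · rw [Subgroup.orderOf_coe]; exact hs2
  · exact fun h => hzs (Subtype.ext h)
  · intro g hg
    exact congrArg Subtype.val (hzc ⟨g, hg⟩)
  · intro g hg hgs
    have h1 : (⟨g, hg⟩ : S) * s = s * ⟨g, hg⟩ := Subtype.ext hgs
    rcases hcent ⟨g, hg⟩ h1 with h | h | h | h
    · exact Or.inl (congrArg Subtype.val h)
    · exact Or.inr (Or.inl (congrArg Subtype.val h))
    · exact Or.inr (Or.inr (Or.inl (congrArg Subtype.val h)))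
    · exact Or.inr (Or.inr (Or.inr (congrArg Subtype.val h)))
  · refine ⟨(g : Ω), g.2, ?_⟩
    rintro (h | h | h | h)
    · exact hg (Or.inl (Subtype.ext h))
    · exact hg (Or.inr (Or.inl (Subtype.ext h)))
    · exact hg (Or.inr (Or.inr (Or.inl (Subtype.ext h))))
    · exact hg (Or.inr (Or.inr (Or.inr (Subtype.ext h))))

/-- (X4a), by helper49 -/
theorem exists_bad_q8 {S : Subgroup Ω} [Finite S] (e : ↥S ≃* QuaternionGroup 2) :
    ∃ F : FusionSystem S, F.IsSaturated 2 ∧ ¬ HasChain F :=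
  Cfsg.Agent.Helper49.SSX4a.exists_bad_q8 e

/-- (P2), by helper57 (with (E) by helper8) -/
theorem exists_invariant_step {G : Type*} [Group G] [Finite G] {p : ℕ} [Fact p.Prime] (hG : IsPGroup p G)
    (A : Subgroup (MulAut G)) (hInn : ∀ g : G, MulAut.conj g ∈ A)
    (hab : ∀ α ∈ A, ∀ β ∈ A, ∃ g : G, α * β * α⁻¹ * β⁻¹ = MulAut.conj g)
    (hexp : ∀ α ∈ A, ∃ g : G, α ^ (p - 1) = MulAut.conj g)
    (N : Subgroup G) (hNinv : ∀ α ∈ A, ∀ y ∈ N, α y ∈ N) (hne : N ≠ ⊤) :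
    ∃ x : G, x ∉ N ∧ ∀ α ∈ A, ∀ y ∈ N ⊔ Subgroup.zpowers x, α y ∈ N ⊔ Subgroup.zpowers x :=
  Cfsg.Agent.Helper57.SS.exists_invariant_step hG A hInn hab hexp N hNinv hne

/-- (R1), by helper25 -/
theorem homocyclic_of_irreducible {G : Type*} [Group G] [Finite G] {p : ℕ} [Fact p.Prime] (hp : p ≠ 2)
    (hG : IsPGroup p G) (hm : IsMetacyclic G) (hnc : ¬ IsCyclic G) (B : Subgroup (MulAut G))
    (hirr : ∀ M : Subgroup G, frattini G ≤ M → (∀ β ∈ B, ∀ x ∈ M, β x ∈ M) → M = frattini G ∨ M = ⊤) :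
    ∃ n : ℕ, 0 < n ∧ Nonempty (G ≃* Multiplicative (ZMod (p ^ n)) × Multiplicative (ZMod (p ^ n))) :=
  Cfsg.Agent.Helper25.SSR1.homocyclic_of_irreducible hp hG hm hnc B hirr

/-- (R2), by helper57 -/
theorem inner_of_stabilizes_flag {G : Type*} [Group G] [Finite G] {p : ℕ} [Fact p.Prime] (hG : IsPGroup p G)
    (A : Subgroup (MulAut G)) (hAp : ∀ α ∈ A, (∃ k : ℕ, α ^ p ^ k = 1) → ∃ g : G, α = MulAut.conj g)
    (M : Subgroup G) (hM1 : frattini G ≤ M) (hMΦ : (frattini G).relIndex M ∣ p) (hGM : M.index ∣ p)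
    (hMinv : ∀ α ∈ A, ∀ x ∈ M, α x ∈ M) :
    (∀ α ∈ A, ∀ β ∈ A, ∃ g : G, α * β * α⁻¹ * β⁻¹ = MulAut.conj g) ∧
      (∀ α ∈ A, ∃ g : G, α ^ (p - 1) = MulAut.conj g) :=
  Cfsg.Agent.Helper57.SS.inner_of_stabilizes_flag hG A hAp M hM1 hMΦ hGM hMinv

/-- (FR), by helper91 -/
theorem frattini_index_dvd_of_metacyclic {G : Type*} [Group G] [Finite G] {p : ℕ} [Fact p.Prime] (hG : IsPGroup p G)
    (hm : IsMetacyclic G) : (frattini G).index ∣ p ^ 2 :=
  Cfsg.Agent.Helper91.SSFR.frattini_index_dvd_of_metacyclic hG hm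

/-- (D'), by helper91 -/
theorem homocyclic_mulEquiv_prod {Q : Type*} [Group Q] [Finite Q] {p : ℕ} [Fact p.Prime] (hm : IsMetacyclic Q)
    (hab : ∀ a b : Q, a * b = b * a) (n : ℕ) (hcard : Nat.card Q = (p ^ n) ^ 2)
    (hexp : ∀ q : Q, q ^ p ^ n = 1) :
    Nonempty (Q ≃* Multiplicative (ZMod (p ^ n)) × Multiplicative (ZMod (p ^ n))) :=
  Cfsg.Agent.Helper91.SSDp.homocyclic_mulEquiv_prod hm hab n hcard hexp

end Cfsg.Agent.Helper85.SS.Pieces
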