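-- S5287 (helper85): the quaternion group of order 8 is homogeneous: injective maps between subgroups extend to automorphisms.
import Cfsg.Agent.Helper49.SSX4a

set_option autoImplicit false

namespace Cfsg.Agent.Helper85.SS.Q8

open QuaternionGroup Cfsg.Agent.Helper49.SSX4a

theorem sq_eq_one_q8 : ∀ x : QuaternionGroup 2, x * x = 1 → x = 1 ∨ x = a 2 := by decide

theorem exists_conj_rot : ∀ u v : QuaternionGroup 2, ((u = 1 ↔ v = 1) ∧ (u * u = 1 ↔ v * v = 1)) →
    ∃ g : QuaternionGroup 2, ∃ k : Fin 3, g * (rot^[k] u) * g⁻¹ = v := by decide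

theorem rotAut_pow_apply (k : ℕ) (x : QuaternionGroup 2) : (rotAut ^ k) x = rot^[k] x := by
  induction k generalizing x with
  | zero => rfl
  | succ k ih =>
    rw [pow_succ, MulAut.mul_apply, ih, Function.iterate_succ_apply]
    rfl

/-- transitivity of `Aut(Q8)` on elements of equal order -/
theorem exists_aut_q8 (u v : QuaternionGroup 2) (h1 : u = 1 ↔ v = 1) (h2 : u * u = 1 ↔ v * v = 1) :
    ∃ γ : MulAut (QuaternionGroup 2), γ u = v := by
  obtain ⟨g, k, h⟩ := exists_conj_rot u v ⟨h1, h2⟩
  refine ⟨MulAut.conj g * rotAut ^ (k : ℕ), ?_⟩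
  rw [MulAut.mul_apply, rotAut_pow_apply, MulAut.conj_apply]
  exact h

variable {E : Type*} [Group E]

/-- A proper subgroup of a group isomorphic to `Q8` is cyclic. -/
theorem exists_generator_of_ne_top (eE : E ≃* QuaternionGroup 2) (P : Subgroup E) (hP : P ≠ ⊤) :
    ∃ u ∈ P, ∀ x ∈ P, x ∈ Subgroup.zpowers u := by
  classical
  have : Finite E := Finite.of_equiv _ eE.symm.toEquiv
  have hcardE : Nat.card E = 8 := by
    rw [Nat.card_congr eE.toEquiv, Nat.card_eq_fintype_card, QuaternionGroup.card]
  have hdvd : Nat.card P ∣ 8 := hcardE ▸ Subgroup.card_subgroup_dvd_card P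
  have hne8 : Nat.card P ≠ 8 := by
    intro h
    exact hP (Subgroup.eq_top_of_card_eq P (by rw [h, hcardE]))
  have hle4 : Nat.card P ∣ 4 := by
    have h8 : (8 : ℕ) = 2 ^ 3 := by norm_num
    rw [h8] at hdvd
    obtain ⟨i, hi, hi'⟩ := (Nat.dvd_prime_pow Nat.prime_two).1 hdvd
    rw [hi'] at hne8 ⊢
    have : i ≠ 3 := fun h => hne8 (by rw [h]; norm_num)
    have hi2 : i ≤ 2 := by omega
    exact pow_dvd_pow 2 hi2
  by_cases hall : ∀ x ∈ P, x * x = 1
  · -- all elements are `1` or the central involution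
    set z : E := eE.symm (a 2) with hz
    have hmem : ∀ x ∈ P, x = 1 ∨ x = z := by
      intro x hx
      have h1 : eE x * eE x = 1 := by rw [← map_mul, hall x hx, map_one]
      rcases sq_eq_one_q8 _ h1 with h | h
      · left
        exact eE.injective (by rw [h, map_one])
      · right
        rw [hz, ← h, MulEquiv.symm_apply_apply]
    by_cases hzP : z ∈ P
    · refine ⟨z, hzP, fun x hx => ?_⟩
      rcases hmem x hx with rfl | rfl
      · exact Subgroup.one_mem _
      · exact Subgroup.mem_zpowers _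
    · refine ⟨1, P.one_mem, fun x hx => ?_⟩
      rcases hmem x hx with rfl | rfl
      · exact Subgroup.one_mem _
      · exact absurd hx hzP
  · push Not at hall
    obtain ⟨u, huP, hu⟩ := hall
    refine ⟨u, huP, ?_⟩
    have ho : orderOf (⟨u, huP⟩ : P) ∣ 4 := (orderOf_dvd_natCard _).trans hle4
    have ho4 : orderOf (⟨u, huP⟩ : P) = 4 := by
      have h4 : (4 : ℕ) = 2 ^ 2 := by norm_num
      rw [h4] at ho
      obtain ⟨i, hi, hi'⟩ := (Nat.dvd_prime_pow Nat.prime_two).1 ho
      have hi2 : i = 2 := by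
        by_contra hne
        have hi1 : i ≤ 1 := by omega
        have h2 : orderOf (⟨u, huP⟩ : P) ∣ 2 := by
          rw [hi']
          exact (pow_dvd_pow 2 hi1).trans (by norm_num)
        have h3 : (⟨u, huP⟩ : P) ^ 2 = 1 := orderOf_dvd_iff_pow_eq_one.mp h2
        apply hu
        have := congrArg Subtype.val h3
        simpa [pow_two] using this
      rw [hi', hi2]
      norm_num
    have hcard4 : Nat.card P = 4 := by
      apply Nat.dvd_antisymm hle4
      rw [← ho4]
      exact orderOf_dvd_natCard _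
    have htop : Subgroup.zpowers (⟨u, huP⟩ : P) = ⊤ := by
      apply Subgroup.eq_top_of_card_eq
      rw [Nat.card_zpowers, ho4, hcard4]
    intro x hx
    have h1 : (⟨x, hx⟩ : P) ∈ Subgroup.zpowers (⟨u, huP⟩ : P) := by rw [htop]; exact Subgroup.mem_top _
    obtain ⟨k, hk⟩ := h1
    refine ⟨k, ?_⟩
    have := congrArg Subtype.val hk
    simpa using this

/-- `Q8` is homogeneous. -/
theorem exists_aut_extending (eE : E ≃* QuaternionGroup 2) (P : Subgroup E) (φ : P →* E)
    (hinj : Function.Injective φ) : ∃ γ : MulAut E, ∀ x : P, γ x = φ x := by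
  classical
  have : Finite E := Finite.of_equiv _ eE.symm.toEquiv
  by_cases hP : P = ⊤
  · subst hP
    set ψ : E →* E := φ.comp (Subgroup.topEquiv (G := E)).symm.toMonoidHom with hψ
    have hψinj : Function.Injective ψ := hinj.comp (Subgroup.topEquiv (G := E)).symm.injective
    have hψbij : Function.Bijective ψ := Finite.injective_iff_bijective.mp hψinj
    refine ⟨MulEquiv.ofBijective ψ hψbij, fun x => ?_⟩
    show ψ x = φ x
    rw [hψ]
    show φ ((Subgroup.topEquiv (G := E)).symm (x : E)) = φ x
    congr 1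
  · obtain ⟨u, huP, hgen⟩ := exists_generator_of_ne_top eE P hP
    set v : E := φ ⟨u, huP⟩ with hv
    have h1 : eE u = 1 ↔ eE v = 1 := by
      rw [map_eq_one_iff eE eE.injective, map_eq_one_iff eE eE.injective]
      constructor
      · intro h
        rw [hv]
        have : (⟨u, huP⟩ : P) = 1 := Subtype.ext h
        rw [this, map_one]
      · intro h
        have : (⟨u, huP⟩ : P) = 1 := hinj (by rw [map_one]; exact h)
        exact congrArg Subtype.val this
    have h2 : eE u * eE u = 1 ↔ eE v * eE v = 1 := by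
      rw [← map_mul, ← map_mul, map_eq_one_iff eE eE.injective, map_eq_one_iff eE eE.injective]
      constructor
      · intro h
        rw [hv, ← map_mul]
        have : (⟨u, huP⟩ : P) * ⟨u, huP⟩ = 1 := Subtype.ext h
        rw [this, map_one]
      · intro h
        rw [hv, ← map_mul] at h
        have : (⟨u, huP⟩ : P) * ⟨u, huP⟩ = 1 := hinj (by rw [map_one]; exact h)
        exact congrArg Subtype.val this
    obtain ⟨γ', hγ'⟩ := exists_aut_q8 (eE u) (eE v) h1 h2
    set γ : MulAut E := (eE.trans γ').trans eE.symm with hγ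
    have hγu : γ u = v := by
      show eE.symm (γ' (eE u)) = v
      rw [hγ', MulEquiv.symm_apply_apply]
    refine ⟨γ, fun x => ?_⟩
    obtain ⟨k, hk⟩ := hgen x x.2
    have hx : x = (⟨u, huP⟩ : P) ^ k := Subtype.ext (by simpa using hk.symm)
    rw [hx, map_zpow, ← hv]
    show γ (u ^ k) = v ^ k
    rw [map_zpow, hγu]

end Cfsg.Agent.Helper85.SS.Q8
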