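-- S5287 (helper85): a saturated fusion system without a chain on a generalized quaternion group of order at least 32
-- (add all automorphisms of a self-centralizing `Q8`).
import Cfsg.Agent.Helper85.SS.Q8Hom
import Cfsg.Agent.Helper49.SSQ1
import Cfsg.Agent.Helper57.SSQ3
import Cfsg.Agent.Helper38.SSSat

set_option autoImplicit false

namespace Cfsg.Agent.Helper85.SS.QLarge

open Cfsg Cfsg.FusionSystem Cfsg.Agent.Helper87 Cfsg.Agent.Helper85.AddAut Cfsg.Agent.Helper85.SS
open QuaternionGroup Cfsg.Agent.Helper49.SSX4a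

variable {Ω : Type*} [Group Ω]

theorem central_q8 : ∀ c : QuaternionGroup 2, c * c = 1 → ∀ q : QuaternionGroup 2, c * q = q * c := by decide

theorem sq_of_mem_center_q8 : ∀ c : QuaternionGroup 2, c ∈ Subgroup.center (QuaternionGroup 2) → c * c = 1 := by
  decide

/-- four divides `n` when `Q_{4n}` is a `2`-group with `4 ≤ n` -/
theorem four_dvd_of_isPGroup {S : Type*} [Group S] [Finite S] (hS : IsPGroup 2 S) (n : ℕ) (hn : 4 ≤ n)
    (e : S ≃* QuaternionGroup n) : 4 ∣ n := by
  have : NeZero n := ⟨by omega⟩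
  obtain ⟨k, hk⟩ := IsPGroup.iff_card.1 hS
  have hcard : Nat.card S = 4 * n := by
    rw [Nat.card_congr e.toEquiv, Nat.card_eq_fintype_card, QuaternionGroup.card]
  have hdvd : n ∣ 2 ^ k := ⟨4, by rw [← hk, hcard]; ring⟩
  obtain ⟨j, -, hj⟩ := (Nat.dvd_prime_pow Nat.prime_two).1 hdvd
  have hj2 : 2 ≤ j := by
    by_contra hlt
    have : j ≤ 1 := by omega
    have h2 : 2 ^ j ≤ 2 ^ 1 := Nat.pow_le_pow_right (by norm_num) this
    omega
  rw [hj]
  exact pow_dvd_pow 2 hj2

/-- an element of a finite subgroup that conjugates a subgroup into itself normalizes it -/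
theorem mem_normalizer_of_conj_le {S E : Subgroup Ω} [Finite S] (w : Ω) (hwS : w ∈ S)
    (hw : ∀ y ∈ E, w * y * w⁻¹ ∈ E) : w ∈ Subgroup.normalizer (E : Set Ω) := by
  have hpow : ∀ k : ℕ, ∀ y ∈ E, w ^ k * y * (w ^ k)⁻¹ ∈ E := by
    intro k
    induction k with
    | zero => intro y hy; simpa using hy
    | succ k ih =>
      intro y hy
      have h1 := hw _ (ih y hy)
      have e1 : w * (w ^ k * y * (w ^ k)⁻¹) * w⁻¹ = w ^ (k + 1) * y * (w ^ (k + 1))⁻¹ := by
        rw [pow_succ']
        group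
      rwa [e1] at h1
  have hfin : IsOfFinOrder (⟨w, hwS⟩ : S) := isOfFinOrder_of_finite _
  obtain ⟨m, hm, hm1⟩ := hfin.exists_pow_eq_one
  have hm1' : w ^ m = 1 := by
    have := congrArg Subtype.val hm1
    simpa using this
  have hinv : w⁻¹ = w ^ (m - 1) := by
    have h2 : w ^ (m - 1) * w = 1 := by
      rw [← pow_succ, Nat.sub_add_cancel hm, hm1']
    exact (eq_inv_of_mul_eq_one_left h2).symm
  rw [Subgroup.mem_normalizer_iff]
  intro y
  constructor
  · exact hw y
  · intro hy
    have h1 := hpow (m - 1) _ hy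
    rw [← hinv] at h1
    have e1 : w⁻¹ * (w * y * w⁻¹) * w⁻¹⁻¹ = y := by group
    rwa [e1] at h1

/-- **(X4b)** -/
theorem exists_bad_quaternion_large {S : Subgroup Ω} [Finite S] (hS : IsPGroup 2 S) (n : ℕ) (hn : 4 ≤ n)
    (e : ↥S ≃* QuaternionGroup n) : ∃ F : FusionSystem S, F.IsSaturated 2 ∧ ¬ HasChain F := by
  classical
  have h4 : 4 ∣ n := four_dvd_of_isPGroup hS n hn e
  obtain ⟨u, v, w, t, huS, hvS, hwS, htS, ⟨eE⟩, hcenE, hwE, hwconj, hnorm, hou, htu, htzu, huv, hT⟩ :=
    Cfsg.Agent.Helper49.SSQ1.quaternion_data n hn h4 hS e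
  set E : Subgroup Ω := Subgroup.closure {u, v} with hE
  have huE : u ∈ E := Subgroup.subset_closure (by simp)
  have hvE : v ∈ E := Subgroup.subset_closure (by simp)
  have hES : E ≤ S := by
    rw [hE, Subgroup.closure_le]
    intro x hx
    rcases hx with rfl | rfl
    · exact huS
    · exact hvS
  -- facts on `u`
  have hu1 : u ≠ 1 := by
    intro h
    rw [h, orderOf_one] at hou
    omega
  have hu2 : u * u ≠ 1 := by
    intro h
    have : orderOf u ∣ 2 := orderOf_dvd_of_pow_eq_one (by rw [pow_two]; exact h)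
    rw [hou] at this
    omega
  have hueq1 : ¬ eE ⟨u, huE⟩ = 1 := by
    intro h
    have h1 : (⟨u, huE⟩ : E) = 1 := eE.injective (by rw [h, map_one])
    exact hu1 (congrArg Subtype.val h1)
  have hueq2 : ¬ eE ⟨u, huE⟩ * eE ⟨u, huE⟩ = 1 := by
    intro h
    rw [← map_mul] at h
    have h1 : (⟨u, huE⟩ : E) * ⟨u, huE⟩ = 1 := eE.injective (by rw [h, map_one])
    exact hu2 (congrArg Subtype.val h1)
  -- homogeneity
  have hhom : ∀ (P : Subgroup Ω) (hPE : P ≤ E) (φ : P →* Ω), Function.Injective φ → (∀ x : P, φ x ∈ E) →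
      ∃ γ : MulAut E, ∀ x : P, ((γ ⟨x, hPE x.2⟩ : E) : Ω) = φ x := by
    intro P hPE φ hinj hφE
    set φ' : P.subgroupOf E →* E := (φ.codRestrict E hφE).comp (Subgroup.subgroupOfEquivOfLe hPE).toMonoidHom
      with hφ'
    have hinj' : Function.Injective φ' := by
      intro a b hab
      have h1 : φ (Subgroup.subgroupOfEquivOfLe hPE a) = φ (Subgroup.subgroupOfEquivOfLe hPE b) :=
        congrArg Subtype.val hab
      exact (Subgroup.subgroupOfEquivOfLe hPE).injective (hinj h1)
    obtain ⟨γ, hγ⟩ := Q8.exists_aut_extending eE (P.subgroupOf E) φ' hinj'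
    refine ⟨γ, fun x => ?_⟩
    have hmem : (⟨x, hPE x.2⟩ : E) ∈ P.subgroupOf E := Subgroup.mem_subgroupOf.2 x.2
    have h1 := hγ ⟨⟨x, hPE x.2⟩, hmem⟩
    have h2 : ((φ' ⟨⟨x, hPE x.2⟩, hmem⟩ : E) : Ω) = φ x := by
      show φ (Subgroup.subgroupOfEquivOfLe hPE ⟨⟨x, hPE x.2⟩, hmem⟩) = φ x
      congr 1
    rw [← h2, ← h1]
  -- `E` is self-centralizing
  have hcen : centralizerIn S E ≤ E := by
    intro g hg
    have hg' : g ∈ S ⊓ Subgroup.centralizer (E : Set Ω) := hg
    refine hcenE g hg'.1 (fun y hy => ?_)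
    exact (Subgroup.mem_centralizer_iff.1 hg'.2 y hy).symm
  have hwN : w ∈ Subgroup.normalizer (E : Set Ω) := mem_normalizer_of_conj_le (S := S) w hwS hwconj
  have hN : ∀ g ∈ S, g ∈ Subgroup.normalizer (E : Set Ω) → g ∈ E ∨ w⁻¹ * g ∈ E := by
    intro g hg hgN
    exact hnorm g hg (fun y hy => (Subgroup.mem_normalizer_iff.1 hgN y).1 hy)
  obtain ⟨hsyl, hTI⟩ := Cfsg.Agent.Helper57.SS.q8_sylow_TI hES eE hcen w hwS hwN hwE hN
  -- proper subgroups of `E` are not centric
  have hmin : ∀ P : Subgroup Ω, P < E → ∃ φ : P →* Ω, Function.Injective φ ∧ (∀ x : P, φ x ∈ E) ∧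
      ¬ centralizerIn S φ.range ≤ φ.range := by
    intro P hPlt
    have hPE : P ≤ E := hPlt.le
    have hne : P.subgroupOf E ≠ ⊤ := by
      intro h
      exact hPlt.not_ge (Subgroup.subgroupOf_eq_top.1 h)
    obtain ⟨g0, hg0P, hgen⟩ := Q8.exists_generator_of_ne_top eE (P.subgroupOf E) hne
    have hgen' : ∀ x ∈ P, ∃ k : ℤ, ∃ hx : x ∈ E, g0 ^ k = ⟨x, hx⟩ := by
      intro x hx
      have hmem : (⟨x, hPE hx⟩ : E) ∈ P.subgroupOf E := Subgroup.mem_subgroupOf.2 hx
      obtain ⟨k, hk⟩ := hgen _ hmem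
      exact ⟨k, hPE hx, hk⟩
    by_cases hsq : g0 * g0 = 1
    · -- `P` is central in `E`
      have hcomm0 : ∀ y : E, g0 * y = y * g0 := by
        intro y
        have h1 : eE g0 * eE g0 = 1 := by rw [← map_mul, hsq, map_one]
        have h2 := central_q8 _ h1 (eE y)
        rw [← map_mul, ← map_mul] at h2
        exact eE.injective h2
      have hcommP : ∀ x ∈ P, ∀ y ∈ E, x * y = y * x := by
        intro x hx y hy
        obtain ⟨k, hxE, hk⟩ := hgen' x hx
        have h1 : Commute (g0 ^ k) (⟨y, hy⟩ : E) := Commute.zpow_left (hcomm0 ⟨y, hy⟩) k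
        rw [hk] at h1
        exact congrArg Subtype.val h1.eq
      refine ⟨P.subtype, Subtype.val_injective, fun x => hPE x.2, ?_⟩
      intro hle
      obtain ⟨y, hyE, hyP⟩ := SetLike.exists_of_lt hPlt
      have hyC : y ∈ centralizerIn S P.subtype.range := by
        refine ⟨hES hyE, ?_⟩
        show y ∈ Subgroup.centralizer _
        rw [Subgroup.mem_centralizer_iff]
        rintro _ ⟨x, rfl⟩
        exact hcommP x x.2 y hyE
      obtain ⟨x, hx⟩ := hle hyC
      apply hyP
      rw [← hx]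
      exact x.2
    · -- map `P` into `⟨u⟩`
      have h1 : eE g0 = 1 ↔ eE ⟨u, huE⟩ = 1 := by
        constructor
        · intro h
          exfalso
          apply hsq
          have : g0 = 1 := eE.injective (by rw [h, map_one])
          rw [this, mul_one]
        · intro h
          exact absurd h hueq1
      have h2 : eE g0 * eE g0 = 1 ↔ eE ⟨u, huE⟩ * eE ⟨u, huE⟩ = 1 := by
        constructor
        · intro h
          exfalso
          apply hsq
          rw [← map_mul] at h
          exact eE.injective (by rw [h, map_one])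
        · intro h
          exact absurd h hueq2
      obtain ⟨γ', hγ'⟩ := Q8.exists_aut_q8 (eE g0) (eE ⟨u, huE⟩) h1 h2
      set γ : MulAut E := (eE.trans γ').trans eE.symm with hγ
      have hγg0 : γ g0 = ⟨u, huE⟩ := by
        show eE.symm (γ' (eE g0)) = _
        rw [hγ', MulEquiv.symm_apply_apply]
      set φ : P →* Ω := E.subtype.comp (γ.toMonoidHom.comp (Subgroup.inclusion hPE)) with hφ
      have hφinj : Function.Injective φ := by
        intro a b hab
        have h3 : γ (Subgroup.inclusion hPE a) = γ (Subgroup.inclusion hPE b) := Subtype.ext hab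
        exact Subgroup.inclusion_injective hPE (γ.injective h3)
      have hφE : ∀ x : P, φ x ∈ E := fun x => (γ (Subgroup.inclusion hPE x)).2
      have hrange : φ.range ≤ Subgroup.zpowers u := by
        rintro _ ⟨x, rfl⟩
        obtain ⟨k, hxE, hk⟩ := hgen' x x.2
        refine ⟨k, ?_⟩
        show u ^ k = ((γ (Subgroup.inclusion hPE x) : E) : Ω)
        have h3 : Subgroup.inclusion hPE x = g0 ^ k := by
          rw [hk]
          rfl
        rw [h3, map_zpow, hγg0]
        simp
      refine ⟨φ, hφinj, hφE, ?_⟩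
      intro hle
      have htC : t ∈ centralizerIn S φ.range := by
        refine ⟨htS, ?_⟩
        show t ∈ Subgroup.centralizer _
        rw [Subgroup.mem_centralizer_iff]
        intro y hy
        obtain ⟨k, hk⟩ := hrange hy
        have h3 : Commute t (u ^ k) := Commute.zpow_right htu k
        have hk' : u ^ k = y := hk
        rw [← hk']
        exact h3.eq.symm
      exact htzu (hrange (hle htC))
  have hsat : (addAutSystem S E hES).IsSaturated 2 :=
    Cfsg.Agent.Helper38.SSSat.addAutSystem_isSaturated hS hES hhom hcen hsyl hTI hmin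
  refine ⟨addAutSystem S E hES, hsat, ?_⟩
  intro hch
  set F := addAutSystem S E hES with hF
  set Z : Subgroup Ω := Subgroup.centralizer (S : Set Ω) with hZ
  have hZcent : ∀ y ∈ Z, ∀ s ∈ S, y * s = s * y := by
    intro y hy s hs
    exact (Subgroup.mem_centralizer_iff.1 hy s hs).symm
  have hSZ : ¬ S ≤ Z := by
    intro h
    exact huv (hZcent u (h huS) v hvS)
  obtain ⟨T, T', x, hxS, hTZ, hT'Z, hTsc, hT'sc, hT'⟩ := hch.exists_step Z hSZ
  have hT'S : T' ≤ S := hT'sc.1
  -- `T'` is abelian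
  have hTcen : T ≤ Subgroup.centralizer (T' : Set Ω) := by
    intro t ht
    rw [Subgroup.mem_centralizer_iff]
    intro u hu
    exact (hZcent t (hTZ ht) u (hT'S hu)).symm
  have hT'x : T' ≤ Subgroup.centralizer ({x} : Set Ω) := by
    rw [hT']
    apply sup_le
    · intro t ht
      rw [Subgroup.mem_centralizer_iff]
      intro u hu
      rw [Set.mem_singleton_iff] at hu
      rw [hu]
      exact (hZcent t (hTZ ht) x hxS).symm
    · rw [Subgroup.zpowers_le, Subgroup.mem_centralizer_iff]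
      intro u hu
      rw [Set.mem_singleton_iff] at hu
      rw [hu]
  have hxcen : Subgroup.zpowers x ≤ Subgroup.centralizer (T' : Set Ω) := by
    rw [Subgroup.zpowers_le, Subgroup.mem_centralizer_iff]
    intro u hu
    have := Subgroup.mem_centralizer_iff.1 (hT'x hu) x rfl
    exact this.symm
  have hab : T' ≤ Subgroup.centralizer (T' : Set Ω) := by
    conv_lhs => rw [hT']
    exact sup_le hTcen hxcen
  have hab' : ∀ a ∈ T', ∀ b ∈ T', a * b = b * a := by
    intro a ha b hb
    exact (Subgroup.mem_centralizer_iff.1 (hab hb) a ha)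
  -- `T'` is invariant under `S`
  have hinv : ∀ g ∈ S, ∀ y ∈ T', g * y * g⁻¹ ∈ T' := by
    intro g hg y hy
    exact hT'sc.2 T' le_rfl (conjHom T' g) (F.conj_mem hT'S hg) ⟨y, hy⟩
  -- `T'` is not central
  have hnc : ∃ x ∈ T', ∃ g ∈ S, g * x ≠ x * g := by
    obtain ⟨q, hqT, hqZ⟩ := SetLike.not_le_iff_exists.1 hT'Z
    by_contra hcon
    push Not at hcon
    apply hqZ
    rw [hZ, Subgroup.mem_centralizer_iff]
    intro g hg
    exact hcon q hqT g hg
  have huT : u ∈ T' := hT T' hT'S hinv hab' hnc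
  -- the image of `u` under the automorphism of order `3`
  set γ : MulAut E := (eE.trans rotAut).trans eE.symm with hγ
  have hzu : Subgroup.zpowers u ≤ E := by
    rw [Subgroup.zpowers_le]
    exact huE
  have hzuT : Subgroup.zpowers u ≤ T' := by
    rw [Subgroup.zpowers_le]
    exact huT
  set ψ : Subgroup.zpowers u →* Ω := E.subtype.comp (γ.toMonoidHom.comp (Subgroup.inclusion hzu)) with hψ
  have hψinj : Function.Injective ψ := by
    intro a b hab
    have h3 : γ (Subgroup.inclusion hzu a) = γ (Subgroup.inclusion hzu b) := Subtype.ext hab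
    exact Subgroup.inclusion_injective hzu (γ.injective h3)
  have hψE : ∀ y : Subgroup.zpowers u, ψ y ∈ E := fun y => (γ (Subgroup.inclusion hzu y)).2
  have hψF : ψ ∈ F.Hom (Subgroup.zpowers u) := by
    refine ⟨hzu.trans hES, Or.inr ⟨hψinj, ⟨1, S.one_mem, fun y => ?_⟩, 1, S.one_mem, fun y => ?_⟩⟩
    · simpa using hzu y.2
    · simpa using hψE y
  have hγu : ((γ ⟨u, huE⟩ : E) : Ω) ∈ T' :=
    hT'sc.2 (Subgroup.zpowers u) hzuT ψ hψF ⟨u, Subgroup.mem_zpowers u⟩
  have hcomm : u * ((γ ⟨u, huE⟩ : E) : Ω) = ((γ ⟨u, huE⟩ : E) : Ω) * u := hab' u huT _ hγu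
  have hcommE : (⟨u, huE⟩ : E) * γ ⟨u, huE⟩ = γ ⟨u, huE⟩ * ⟨u, huE⟩ := Subtype.ext hcomm
  have hcommQ := congrArg eE hcommE
  have hγe : eE (γ ⟨u, huE⟩) = rot (eE ⟨u, huE⟩) := by
    show eE (eE.symm (rotAut (eE ⟨u, huE⟩))) = _
    rw [MulEquiv.apply_symm_apply]
    rfl
  rw [map_mul, map_mul, hγe] at hcommQ
  have hncQ : eE ⟨u, huE⟩ ∉ Subgroup.center (QuaternionGroup 2) := by
    intro hc
    exact hueq2 (sq_of_mem_center_q8 _ hc)
  exact not_commute_rot _ hncQ hcommQ

end Cfsg.Agent.Helper85.SS.QLarge
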