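-- S5287 (helper85): the direction (=>): the groups of the list carry a saturated system without a cyclic chain.
import Cfsg.Agent.Helper85.SS.Pieces
import Cfsg.Agent.Helper85.SS.QLarge

set_option autoImplicit false

namespace Cfsg.Agent.Helper85.SS

open Cfsg Cfsg.FusionSystem Cfsg.Agent.Helper85.SS.Pieces

variable {Ω : Type*} [Group Ω] {S : Subgroup Ω}

/-- generalized quaternion groups of order at least `8` -/
theorem exists_bad_quaternion [Finite S] (hS : IsPGroup 2 S) (n : ℕ) (hn : 2 ≤ n)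
    (e : ↥S ≃* QuaternionGroup n) : ∃ F : FusionSystem S, F.IsSaturated 2 ∧ ¬ HasChain F := by
  by_cases h4 : 4 ≤ n
  · exact Cfsg.Agent.Helper85.SS.QLarge.exists_bad_quaternion_large hS n h4 e
  · have h23 : n = 2 ∨ n = 3 := by omega
    rcases h23 with rfl | rfl
    · exact exists_bad_q8 e
    · exfalso
      have hcard : Nat.card S = 12 := by
        rw [Nat.card_congr e.toEquiv, Nat.card_eq_fintype_card, QuaternionGroup.card]
      obtain ⟨k, hk⟩ := IsPGroup.iff_card.mp hS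
      rw [hcard] at hk
      have h3 : 3 ∣ 2 ^ k := by rw [← hk]; norm_num
      have := Nat.Prime.dvd_of_dvd_pow Nat.prime_three h3
      omega

/-- Direction (=>) of S5287, contrapositive form. -/
theorem exists_bad [Finite S] (p : ℕ) [Fact p.Prime] (hS : IsPGroup p ↥S)
    (h : (∃ n : ℕ, 0 < n ∧ Nonempty (↥S ≃* Multiplicative (ZMod (p ^ n)) × Multiplicative (ZMod (p ^ n)))) ∨
      (p = 2 ∧ ((∃ n : ℕ, 2 ≤ n ∧ Nonempty (↥S ≃* DihedralGroup n)) ∨ IsQuasiDihedral ↥S ∨
        (∃ n : ℕ, 2 ≤ n ∧ Nonempty (↥S ≃* QuaternionGroup n))))) :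
    ∃ F : FusionSystem S, F.IsSaturated p ∧ ¬ HasChain F := by
  rcases h with ⟨n, hn, ⟨e⟩⟩ | ⟨rfl, ⟨n, hn, ⟨e⟩⟩ | hqd | ⟨n, hn, ⟨e⟩⟩⟩
  · exact exists_bad_homocyclic p n hn e
  · exact exists_bad_dihedral hS n hn e
  · exact exists_bad_quasidihedral hqd
  · exact exists_bad_quaternion hS n hn e

end Cfsg.Agent.Helper85.SS
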