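-- S5287 (helper85): pure group glue for the direction (<=): invariant chains with cyclic steps.
import Cfsg.Agent.Helper85.SS.Pieces
import Cfsg.Agent.Helper63.Frattini

set_option autoImplicit false

namespace Cfsg.Agent.Helper85.SS

open Cfsg Cfsg.Agent.Helper85.SS.Pieces

section chain

variable {G : Type*} [Group G] [Finite G] {p : ℕ} [Fact p.Prime]

/-- From an invariant subgroup `N` up to `⊤` by cyclic invariant steps. -/
theorem exists_invariant_chain_from (hG : IsPGroup p G)
    (A : Subgroup (MulAut G)) (hInn : ∀ g : G, MulAut.conj g ∈ A)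
    (hab : ∀ α ∈ A, ∀ β ∈ A, ∃ g : G, α * β * α⁻¹ * β⁻¹ = MulAut.conj g)
    (hexp : ∀ α ∈ A, ∃ g : G, α ^ (p - 1) = MulAut.conj g) :
    ∀ (k : ℕ) (N : Subgroup G), Nat.card G - Nat.card N = k → (∀ α ∈ A, ∀ y ∈ N, α y ∈ N) →
    ∃ (m : ℕ) (c : Fin (m + 1) → Subgroup G), c 0 = N ∧ c (Fin.last m) = ⊤ ∧
      (∀ i, ∀ α ∈ A, ∀ y ∈ c i, α y ∈ c i) ∧
      ∀ i : Fin m, c i.castSucc ≤ c i.succ ∧ ∃ x : G, c i.succ = c i.castSucc ⊔ Subgroup.zpowers x := by
  intro k
  induction k using Nat.strong_induction_on with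
  | _ k ih =>
    intro N hk hN
    by_cases htop : N = ⊤
    · refine ⟨0, fun _ => ⊤, htop.symm, rfl, fun _ α _ y _ => Subgroup.mem_top _, fun i => i.elim0⟩
    · obtain ⟨x, hxN, hx⟩ := exists_invariant_step hG A hInn hab hexp N hN htop
      have hlt : N < N ⊔ Subgroup.zpowers x := by
        refine lt_of_le_of_ne le_sup_left (fun h => hxN ?_)
        rw [h]
        exact (le_sup_right : Subgroup.zpowers x ≤ _) (Subgroup.mem_zpowers x)
      have hcard : Nat.card N < Nat.card ↥(N ⊔ Subgroup.zpowers x) := by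
        by_contra hcon
        exact hlt.ne (Subgroup.eq_of_le_of_card_ge hlt.le (not_lt.mp hcon))
      have hle : Nat.card ↥(N ⊔ Subgroup.zpowers x) ≤ Nat.card G := Subgroup.card_le_card_group _
      obtain ⟨m, c, h0, hm, hinv, hstep⟩ :=
        ih (Nat.card G - Nat.card ↥(N ⊔ Subgroup.zpowers x)) (by omega) _ rfl hx
      refine ⟨m + 1, Fin.cons N c, rfl, ?_, ?_, ?_⟩
      · have : Fin.last (m + 1) = (Fin.last m).succ := rfl
        rw [this, Fin.cons_succ]
        exact hm
      · intro i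
        refine Fin.cases ?_ (fun j => ?_) i
        · exact hN
        · rw [Fin.cons_succ]
          exact hinv j
      · intro i
        refine Fin.cases ?_ (fun j => ?_) i
        · have e1 : (0 : Fin (m + 1)).castSucc = (0 : Fin (m + 2)) := rfl
          rw [e1, Fin.cons_zero, Fin.cons_succ, h0]
          exact ⟨le_sup_left, x, rfl⟩
        · have e1 : (j.succ : Fin (m + 1)).castSucc = (j.castSucc).succ := rfl
          rw [e1, Fin.cons_succ, Fin.cons_succ]
          exact hstep j

/-- (P12) a chain of invariant subgroups with cyclic steps from `⊥` to `⊤`. -/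
theorem exists_invariant_chain (hG : IsPGroup p G)
    (A : Subgroup (MulAut G)) (hInn : ∀ g : G, MulAut.conj g ∈ A)
    (hab : ∀ α ∈ A, ∀ β ∈ A, ∃ g : G, α * β * α⁻¹ * β⁻¹ = MulAut.conj g)
    (hexp : ∀ α ∈ A, ∃ g : G, α ^ (p - 1) = MulAut.conj g) :
    ∃ (m : ℕ) (c : Fin (m + 1) → Subgroup G), c 0 = ⊥ ∧ c (Fin.last m) = ⊤ ∧
      (∀ i, ∀ α ∈ A, ∀ y ∈ c i, α y ∈ c i) ∧
      ∀ i : Fin m, c i.castSucc ≤ c i.succ ∧ ∃ x : G, c i.succ = c i.castSucc ⊔ Subgroup.zpowers x := by
  refine exists_invariant_chain_from hG A hInn hab hexp _ ⊥ rfl ?_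
  intro α _ y hy
  rw [Subgroup.mem_bot] at hy ⊢
  rw [hy, map_one]

end chain

section autos

variable {G : Type*} [Group G] [Finite G] {p : ℕ} [Fact p.Prime]

/-- For a cyclic `p`-group the Frattini quotient has order dividing `p`. -/
theorem frattini_index_dvd_of_isCyclic (hG : IsPGroup p G) (hc : IsCyclic G) : (frattini G).index ∣ p := by
  obtain ⟨g, hg⟩ := hc.exists_generator
  rw [Subgroup.index_eq_card]
  have hgen : ∀ y : G ⧸ frattini G, y ∈ Subgroup.zpowers (QuotientGroup.mk g : G ⧸ frattini G) := by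
    intro y
    obtain ⟨x, rfl⟩ := QuotientGroup.mk_surjective y
    obtain ⟨k, rfl⟩ := hg x
    exact ⟨k, rfl⟩
  rw [← orderOf_eq_card_of_forall_mem_zpowers hgen]
  apply orderOf_dvd_of_pow_eq_one
  rw [← QuotientGroup.mk_pow, QuotientGroup.eq_one_iff]
  exact Cfsg.Agent.Helper63.pow_prime_mem_frattini hG g

/-- (P3) For an odd prime `p`, a group `A` of automorphisms of a metacyclic `p`-group that is not homocyclic of rank two, whose
elements of `p`-power order are inner, is abelian of exponent dividing `p - 1` modulo the inner automorphisms. -/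
theorem aut_abelian_exponent (hp : p ≠ 2) (hG : IsPGroup p G) (hm : IsMetacyclic G)
    (hnh : ¬ ∃ n : ℕ, 0 < n ∧ Nonempty (G ≃* Multiplicative (ZMod (p ^ n)) × Multiplicative (ZMod (p ^ n))))
    (A : Subgroup (MulAut G)) (hAp : ∀ α ∈ A, (∃ k : ℕ, α ^ p ^ k = 1) → ∃ g : G, α = MulAut.conj g) :
    (∀ α ∈ A, ∀ β ∈ A, ∃ g : G, α * β * α⁻¹ * β⁻¹ = MulAut.conj g) ∧
      (∀ α ∈ A, ∃ g : G, α ^ (p - 1) = MulAut.conj g) := by
  have hpp : p.Prime := Fact.out
  have hΦinv : ∀ α ∈ A, ∀ x ∈ frattini G, α x ∈ frattini G := by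
    intro α _ x hx
    have hchar := (Subgroup.characteristic_iff_map_le.mp
      (inferInstance : (frattini G).Characteristic)) α
    exact hchar ⟨x, hx, rfl⟩
  have hidx := frattini_index_dvd_of_metacyclic hG hm
  by_cases hcyc : IsCyclic G
  · refine inner_of_stabilizes_flag hG A hAp (frattini G) le_rfl ?_ (frattini_index_dvd_of_isCyclic hG hcyc) hΦinv
    rw [Subgroup.relIndex_self]
    exact one_dvd p
  · by_cases hM : ∃ M : Subgroup G, frattini G ≤ M ∧ (∀ α ∈ A, ∀ x ∈ M, α x ∈ M) ∧ M ≠ frattini G ∧ M ≠ ⊤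
    · obtain ⟨M, h1, h2, h3, h4⟩ := hM
      have hmul : (frattini G).relIndex M * M.index = (frattini G).index := Subgroup.relIndex_mul_index h1
      have ha1 : (frattini G).relIndex M ≠ 1 := by
        intro h
        rw [Subgroup.relIndex_eq_one] at h
        exact h3 (le_antisymm h h1)
      have hb1 : M.index ≠ 1 := by
        intro h
        rw [Subgroup.index_eq_one] at h
        exact h4 h
      have hab : (frattini G).relIndex M * M.index ∣ p ^ 2 := hmul ▸ hidx
      obtain ⟨i, hi, hi'⟩ := (Nat.dvd_prime_pow hpp).1 (Dvd.dvd.trans (Dvd.intro _ rfl) hab)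
      obtain ⟨j, hj, hj'⟩ := (Nat.dvd_prime_pow hpp).1 (Dvd.dvd.trans (Dvd.intro_left _ rfl) hab)
      rw [hi', hj', ← pow_add] at hab
      have hij : i + j ≤ 2 := (Nat.pow_dvd_pow_iff_le_right hpp.one_lt).mp hab
      have hi0 : i ≠ 0 := by
        rintro rfl
        exact ha1 (by rw [hi', pow_zero])
      have hj0 : j ≠ 0 := by
        rintro rfl
        exact hb1 (by rw [hj', pow_zero])
      have hi1 : i = 1 := by omega
      have hj1 : j = 1 := by omega
      refine inner_of_stabilizes_flag hG A hAp M h1 ?_ ?_ h2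
      · rw [hi', hi1, pow_one]
      · rw [hj', hj1, pow_one]
    · exfalso
      apply hnh
      apply homocyclic_of_irreducible hp hG hm hcyc A
      intro M h1 h2
      by_contra h
      push Not at h
      exact hM ⟨M, h1, h2, h.1, h.2⟩

end autos

end Cfsg.Agent.Helper85.SS
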