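-- S5287 (helper85): fusion glue for the direction (<=).
import Cfsg.Agent.Helper85.SS.Good1
import Cfsg.Agent.Helper85.MetaSC
import Cfsg.Agent.S5234
import Cfsg.Agent.S5111
import Cfsg.Agent.S5326
import Cfsg.Agent.Helper87.FusionAlperin

set_option autoImplicit false

namespace Cfsg.Agent.Helper85.SS

open Cfsg Cfsg.FusionSystem Cfsg.Agent.Helper87 Cfsg.Agent.Helper85.SS.Pieces

variable {Ω : Type*} [Group Ω] {S : Subgroup Ω}

/-- If `S` is normal in `F` and `Aut_F(S)` is abelian of exponent dividing `p - 1` modulo `Inn(S)`, then `F` has a chain of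
strongly closed subgroups with cyclic steps. -/
theorem hasChain_of_normal [Finite S] {p : ℕ} [Fact p.Prime] (hS : IsPGroup p S) (F : FusionSystem S)
    (hN : F.IsNormal S)
    (hab : ∀ α ∈ F.autGroup S, ∀ β ∈ F.autGroup S, ∃ g : S, α * β * α⁻¹ * β⁻¹ = MulAut.conj g)
    (hexp : ∀ α ∈ F.autGroup S, ∃ g : S, α ^ (p - 1) = MulAut.conj g) : HasChain F := by
  have hInn : ∀ g : S, MulAut.conj g ∈ F.autGroup S := fun g => inn_le_autGroup F le_rfl ⟨g, rfl⟩
  obtain ⟨m, c, h0, hm, hinv, hstep⟩ := exists_invariant_chain hS (F.autGroup S) hInn hab hexp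
  refine ⟨m, fun i => (c i).map S.subtype, ?_, ?_, ?_, ?_⟩
  · show (c 0).map S.subtype = ⊥
    rw [h0, Subgroup.map_bot]
  · show (c (Fin.last m)).map S.subtype = S
    rw [hm, ← MonoidHom.range_eq_map, Subgroup.range_subtype]
  · intro i
    have hle : (c i).map S.subtype ≤ S := by
      rintro _ ⟨y, -, rfl⟩
      exact y.2
    refine ⟨hle, fun R hR φ hφ x => ?_⟩
    obtain ⟨β, hβ, hβx⟩ := Cfsg.Agent.S5234.exists_aut_extending F hN (hR.trans hle) hφ
    rw [← hβx x]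
    obtain ⟨y, hy, hyx⟩ := hR x.2
    have e : (⟨(x : Ω), (hR.trans hle) x.2⟩ : S) = y := Subtype.ext hyx.symm
    rw [e]
    exact ⟨β y, hinv i β hβ y hy, rfl⟩
  · intro i
    obtain ⟨h1, x, hx⟩ := hstep i
    refine ⟨Subgroup.map_mono h1, (x : Ω), x.2, ?_⟩
    show (c i.succ).map S.subtype = (c i.castSucc).map S.subtype ⊔ Subgroup.zpowers (x : Ω)
    rw [hx, Subgroup.map_sup, MonoidHom.map_zpowers]
    rfl

/-- In a saturated system the elements of `p`-power order of `Aut_F(S)` are inner. -/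
theorem inner_of_pow_eq_one [Finite S] {p : ℕ} [Fact p.Prime] (hS : IsPGroup p S) (F : FusionSystem S)
    (hF : F.IsSaturated p) (α : MulAut S) (hα : α ∈ F.autGroup S) (hk : ∃ k : ℕ, α ^ p ^ k = 1) :
    ∃ g : S, α = MulAut.conj g := by
  obtain ⟨-, R, hR⟩ := ((Cfsg.Agent.S5111.result p hS F).1 hF).1
  have : Finite (MulAut S) := MulEquiv.finite_left
  -- the Sylow subgroup `R` is normal
  have hRn : (R : Subgroup (F.autGroup S)).Normal := by
    rw [hR]
    refine ⟨fun n hn γ => ?_⟩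
    rw [Subgroup.mem_subgroupOf, mem_autInducedBy_iff] at hn ⊢
    obtain ⟨g, hg, hgx⟩ := hn
    refine ⟨((γ : MulAut S) ⟨g, hg⟩ : S), ((γ : MulAut S) ⟨g, hg⟩).2, fun x => ?_⟩
    have h1 : ((γ * n * γ⁻¹ : F.autGroup S) : MulAut S) x = (γ : MulAut S) ((n : MulAut S) ((γ : MulAut S)⁻¹ x)) := rfl
    rw [h1]
    have h2 : (n : MulAut S) ((γ : MulAut S)⁻¹ x) = ⟨g, hg⟩ * ((γ : MulAut S)⁻¹ x) * ⟨g, hg⟩⁻¹ :=
      Subtype.ext (hgx _)
    rw [h2, map_mul, map_mul, map_inv, MulAut.apply_inv_self]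
    rfl
  -- the cyclic group generated by `α` is a `p`-group, hence inside `R`
  obtain ⟨k, hk⟩ := hk
  have hp : IsPGroup p (Subgroup.zpowers (⟨α, hα⟩ : F.autGroup S)) := by
    rintro ⟨_, j, rfl⟩
    refine ⟨k, Subtype.ext ?_⟩
    show ((⟨α, hα⟩ : F.autGroup S) ^ j) ^ p ^ k = 1
    rw [← zpow_natCast, ← zpow_mul, mul_comm, zpow_mul, zpow_natCast]
    have : (⟨α, hα⟩ : F.autGroup S) ^ p ^ k = 1 := Subtype.ext (by simpa using hk)
    rw [this, one_zpow]
  obtain ⟨R', hR'⟩ := hp.exists_le_sylow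
  have hRR' : R' = R := by
    have := hRn
    have : Subsingleton (Sylow p (F.autGroup S)) := Sylow.unique_of_normal R hRn |>.instSubsingleton
    exact Subsingleton.elim _ _
  have hαR : (⟨α, hα⟩ : F.autGroup S) ∈ (R : Subgroup (F.autGroup S)) := by
    rw [← hRR']
    exact hR' (Subgroup.mem_zpowers _)
  rw [hR, Subgroup.mem_subgroupOf, mem_autInducedBy_iff] at hαR
  obtain ⟨g, hg, hgx⟩ := hαR
  refine ⟨⟨g, hg⟩, ?_⟩
  ext x
  rw [hgx x]
  rfl

end Cfsg.Agent.Helper85.SS
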