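-- S5287 (helper85): the direction (<=): metacyclic `p`-groups outside the list are of supersoluble type.
import Cfsg.Agent.Helper85.SS.Good2
import Cfsg.Agent.Helper87.FusionSolv

set_option autoImplicit false

namespace Cfsg.Agent.Helper85.SS

open Cfsg Cfsg.FusionSystem Cfsg.Agent.Helper87 Cfsg.Agent.Helper85.SS.Pieces Cfsg.Agent.Helper85.MetaSC

variable {Ω : Type*} [Group Ω] {S : Subgroup Ω}

/-- For `p = 2`: in a saturated system over a metacyclic `2`-group outside the list, `Aut_F(S)` is a `2`-group. -/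
theorem isPGroup_autGroup_two [Finite S] (hS : IsPGroup 2 S) (F : FusionSystem S)
    (hm : IsMetacyclic ↥S)
    (hnh : ¬ ∃ n : ℕ, 0 < n ∧ Nonempty (↥S ≃* Multiplicative (ZMod (2 ^ n)) × Multiplicative (ZMod (2 ^ n))))
    (hex : ¬ ((∃ m : ℕ, Nonempty (↥S ≃* DihedralGroup m)) ∨ (∃ m : ℕ, Nonempty (↥S ≃* QuaternionGroup m)) ∨
      IsQuasiDihedral ↥S) ∨ ∀ a b : S, a * b = b * a) :
    IsPGroup 2 (F.autGroup S) := by
  have : Fact (Nat.Prime 2) := ⟨Nat.prime_two⟩
  have : Finite (MulAut S) := MulEquiv.finite_left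
  by_contra hnot
  obtain ⟨r, hrp, hrdvd, hrodd⟩ : ∃ r, Nat.Prime r ∧ r ∣ Nat.card (F.autGroup S) ∧ Odd r := by
    rcases Nat.eq_two_pow_or_exists_odd_prime_and_dvd (Nat.card (F.autGroup S)) with ⟨k, hk⟩ | h
    · exact absurd (IsPGroup.of_card hk) hnot
    · exact h
  have : Fact r.Prime := ⟨hrp⟩
  obtain ⟨⟨α, hαK⟩, hαord⟩ := exists_prime_orderOf_dvd_card' r hrdvd
  have hαord' : orderOf α = r := by
    rw [← hαord]
    exact (Subgroup.orderOf_mk α hαK).symm
  have hαodd : Odd (orderOf α) := by rw [hαord']; exact hrodd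
  have hα1 : α ≠ 1 := by
    intro h
    rw [h, orderOf_one] at hαord'
    exact hrp.one_lt.ne hαord'
  rcases Cfsg.Agent.Helper65.MetaTwoA.metacyclic_two_odd_aut hS hm α hαodd hα1 with
    ⟨x, y, hx4, hinv, hsq⟩ | ⟨hab, m, hm1, hcard, hexp⟩
  · rcases hex with hex | hcomm
    · exact hex (Cfsg.Agent.Helper35.MetaTwoC.metacyclic_two_maximal_class hS hm x y hx4 hinv (Or.inr hsq))
    · -- `x` has order `4` and is inverted by `y`: impossible in an abelian group
      have h1 : y * x * y⁻¹ = x := by rw [hcomm y x, mul_inv_cancel_right]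
      rw [h1] at hinv
      have h2 : x ^ 2 = 1 := by
        rw [pow_two]
        nth_rewrite 1 [hinv]
        exact inv_mul_cancel x
      have h3 := orderOf_dvd_of_pow_eq_one h2
      rw [hx4] at h3
      omega
  · apply hnh
    refine ⟨m, hm1, homocyclic_mulEquiv_prod hm hab m ?_ hexp⟩
    rw [hcard, ← pow_mul, mul_comm, pow_mul]
    norm_num

/-- A group isomorphic to `DihedralGroup m` or `QuaternionGroup m` with `m < 2` is abelian. -/
theorem comm_of_small_dihedral {T : Type*} [Group T] [Finite T] (m : ℕ) (hm : ¬ 2 ≤ m) (e : T ≃* DihedralGroup m) :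
    ∀ a b : T, a * b = b * a := by
  have : Fact (Nat.Prime 2) := ⟨Nat.prime_two⟩
  have hcard : Nat.card T = 2 * m := by rw [Nat.card_congr e.toEquiv, DihedralGroup.nat_card]
  have hm1 : m = 1 := by
    have : m ≠ 0 := by
      rintro rfl
      have := Nat.card_pos (α := T)
      omega
    omega
  subst hm1
  have h2 : Nat.card T = 2 ^ 1 := by rw [hcard]; norm_num
  exact Cfsg.Agent.S5234.comm_of_card_le_sq (p := 2) (IsPGroup.of_card h2) (by rw [hcard]; norm_num)

theorem comm_of_small_quaternion {T : Type*} [Group T] [Finite T] (m : ℕ) (hm : ¬ 2 ≤ m) (e : T ≃* QuaternionGroup m) :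
    ∀ a b : T, a * b = b * a := by
  have : Fact (Nat.Prime 2) := ⟨Nat.prime_two⟩
  have hm1 : m = 1 := by
    have : m ≠ 0 := by
      rintro rfl
      have h1 : orderOf (e.symm (QuaternionGroup.a 1)) = 0 := by
        rw [MulEquiv.orderOf_eq, QuaternionGroup.orderOf_a_one]
      exact (orderOf_pos (e.symm (QuaternionGroup.a 1))).ne' h1
    omega
  subst hm1
  have hcard : Nat.card T = 2 ^ 2 := by
    rw [Nat.card_congr e.toEquiv, Nat.card_eq_fintype_card, QuaternionGroup.card]; norm_num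
  exact Cfsg.Agent.S5234.comm_of_card_le_sq (p := 2) (IsPGroup.of_card hcard) (by rw [hcard])

/-- Direction (<=) of S5287. -/
theorem hasChain_of_good [Finite S] (p : ℕ) [Fact p.Prime] (hS : IsPGroup p ↥S) (hm : IsMetacyclic ↥S)
    (hne : ¬ ((∃ n : ℕ, 0 < n ∧ Nonempty (↥S ≃* Multiplicative (ZMod (p ^ n)) × Multiplicative (ZMod (p ^ n)))) ∨
      (p = 2 ∧ ((∃ n : ℕ, 2 ≤ n ∧ Nonempty (↥S ≃* DihedralGroup n)) ∨ IsQuasiDihedral ↥S ∨
        (∃ n : ℕ, 2 ≤ n ∧ Nonempty (↥S ≃* QuaternionGroup n))))))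
    (F : FusionSystem S) (hF : F.IsSaturated p) : HasChain F := by
  have hnh : ¬ ∃ n : ℕ, 0 < n ∧ Nonempty (↥S ≃* Multiplicative (ZMod (p ^ n)) × Multiplicative (ZMod (p ^ n))) :=
    fun h => hne (Or.inl h)
  by_cases hp : p = 2
  · subst hp
    have h2 : ¬ ((∃ n : ℕ, 2 ≤ n ∧ Nonempty (↥S ≃* DihedralGroup n)) ∨ IsQuasiDihedral ↥S ∨
        (∃ n : ℕ, 2 ≤ n ∧ Nonempty (↥S ≃* QuaternionGroup n))) := fun h => hne (Or.inr ⟨rfl, h⟩)
    have key : ¬ ((∃ m : ℕ, Nonempty (↥S ≃* DihedralGroup m)) ∨ (∃ m : ℕ, Nonempty (↥S ≃* QuaternionGroup m)) ∨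
        IsQuasiDihedral ↥S) ∨ ∀ a b : S, a * b = b * a := by
      by_cases hc : ∀ a b : S, a * b = b * a
      · exact Or.inr hc
      · left
        rintro (⟨m, ⟨e⟩⟩ | ⟨m, ⟨e⟩⟩ | hqd)
        · by_cases h2m : 2 ≤ m
          · exact h2 (Or.inl ⟨m, h2m, ⟨e⟩⟩)
          · exact hc (comm_of_small_dihedral m h2m e)
        · by_cases h2m : 2 ≤ m
          · exact h2 (Or.inr (Or.inr ⟨m, h2m, ⟨e⟩⟩))
          · exact hc (comm_of_small_quaternion m h2m e)
        · exact h2 (Or.inr (Or.inl hqd))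
    have hnoess : ∀ E : Subgroup Ω, ¬ F.IsEssential 2 E := by
      intro E hE
      have hlt := Cfsg.Agent.S5326.lt_of_isEssential hS F hF hE
      rcases key with hex | hcomm
      · exact absurd (le_essential_of_metacyclic hS F hF (stronglyClosed_self F) hm hex hE) (not_le_of_gt hlt)
      · have hcen : centralizerIn S E ≤ E := hE.1.2 E (isConj_refl F hE.1.1)
        apply not_le_of_gt hlt
        intro x hx
        apply hcen
        refine ⟨hx, fun y hy => ?_⟩
        have := hcomm ⟨y, hE.1.1 hy⟩ ⟨x, hx⟩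
        exact congrArg Subtype.val this
    have hN : F.IsNormal S := by
      apply isNormal_of_forall_essential hS F hF
      rintro P (rfl | h)
      · refine ⟨le_rfl, fun α _ => ?_⟩
        have h1 : P.subgroupOf P = ⊤ := Subgroup.subgroupOf_self P
        rw [h1]
        exact Subgroup.map_top_of_surjective _ α.surjective
      · exact absurd h (hnoess P)
    have hA2 := isPGroup_autGroup_two hS F hm hnh key
    have hinner : ∀ α ∈ F.autGroup S, ∃ g : S, α = MulAut.conj g := by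
      intro α hα
      apply inner_of_pow_eq_one hS F hF α hα
      obtain ⟨k, hk⟩ := hA2 ⟨α, hα⟩
      exact ⟨k, by simpa using congrArg Subtype.val hk⟩
    refine hasChain_of_normal hS F hN (fun α hα β hβ => ?_) (fun α hα => ?_)
    · exact hinner _ ((F.autGroup S).mul_mem ((F.autGroup S).mul_mem ((F.autGroup S).mul_mem hα hβ)
        ((F.autGroup S).inv_mem hα)) ((F.autGroup S).inv_mem hβ))
    · obtain ⟨g, hg⟩ := hinner α hα
      exact ⟨g, by rw [← hg]; norm_num⟩
  · have hN := Cfsg.Agent.S5234.result p hS F hF S (stronglyClosed_self F) hp hm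
    obtain ⟨hab, hexp⟩ := aut_abelian_exponent hp hS hm hnh (F.autGroup S)
      (fun α hα hk => inner_of_pow_eq_one hS F hF α hα hk)
    exact hasChain_of_normal hS F hN hab hexp

end Cfsg.Agent.Helper85.SS
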